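import Mathlib

/-!
# Derivations at the counit in the dual of a finite Hopf algebra
-/

set_option autoImplicit false
set_option linter.style.haveILetI false

universe u v

open WithConv TensorProduct Coalgebra

namespace MuAlphaLib

variable {k : Type u} [Field k] {A : Type v} [CommRing A] [Bialgebra k A]

local notation "D" => WithConv (A →ₗ[k] k)

noncomputable local instance dualAlgebra : Algebra k D := Algebra.ofModule smul_mul_assoc mul_smul_comm

/-- A derivation at the counit. -/
def IsDer (x : D) : Prop :=
  ∀ a b : A, x (a * b) = x a * counit (R := k) b + counit (R := k) a * x b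

theorem one_apply (a : A) : (1 : D) a = counit (R := k) a := rfl

/-- The pairing of a pair of functionals. -/
noncomputable def pair (φ ψ : D) : A ⊗[k] A →ₗ[k] k :=
  LinearMap.mul' k k ∘ₗ TensorProduct.map φ.ofConv ψ.ofConv

theorem pair_tmul (φ ψ : D) (a b : A) : pair φ ψ (a ⊗ₜ b) = φ a * ψ b := by
  simp [pair]

theorem mul_apply (φ ψ : D) (a : A) : (φ * ψ) a = pair φ ψ (comul a) := rfl

theorem leibniz {x ψ : D} (hx : IsDer x) {ι : Type*} (s : Finset ι) (r : ι → k) (u v : ι → D)
    (hψ : ∀ a b : A, ψ (a * b) = ∑ i ∈ s, r i * (u i a * v i b)) (a b : A) :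
    (x * ψ) (a * b) = ∑ i ∈ s, r i * ((x * u i) a * v i b + u i a * (x * v i) b) := by
  have key : ∀ S T : A ⊗[k] A, pair x ψ (S * T) =
      ∑ i ∈ s, r i * (pair x (u i) S * pair 1 (v i) T + pair 1 (u i) S * pair x (v i) T) := by
    intro S T
    induction S using TensorProduct.induction_on with
    | zero => simp
    | add S S' hS hS' =>
      simp only [add_mul, map_add, hS, hS', mul_add, Finset.sum_add_distrib]
      abel
    | tmul a a' =>
      induction T using TensorProduct.induction_on with
      | zero => simp
      | add T T' hT hT' =>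
        simp only [mul_add, map_add, hT, hT', Finset.sum_add_distrib]
        abel
      | tmul b b' =>
        simp only [Algebra.TensorProduct.tmul_mul_tmul, pair_tmul, hx a b, hψ a' b', one_apply, Finset.mul_sum]
        exact Finset.sum_congr rfl fun i _ => by ring
  rw [mul_apply, Bialgebra.comul_mul, key]
  refine Finset.sum_congr rfl fun i _ => ?_
  rw [← mul_apply, ← mul_apply, ← mul_apply, ← mul_apply, one_mul, one_mul]

theorem pow_leibniz {x : D} (hx : IsDer x) (n : ℕ) (a b : A) :
    (x ^ n) (a * b) = ∑ ij ∈ Finset.HasAntidiagonal.antidiagonal n, (n.choose ij.1 : k) * ((x ^ ij.1) a * (x ^ ij.2) b) := by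
  induction n generalizing a b with
  | zero => simp [one_apply, Bialgebra.counit_mul]
  | succ n ih =>
    rw [pow_succ', leibniz hx _ _ (fun ij : ℕ × ℕ => x ^ ij.1) (fun ij : ℕ × ℕ => x ^ ij.2) ih,
      Finset.sum_antidiagonal_choose_succ_mul (f := fun i j => (x ^ i) a * (x ^ j) b)]
    simp only [← pow_succ', mul_add, Finset.sum_add_distrib]
    rw [add_comm]
    congr 1
    refine Finset.sum_congr rfl fun ij hij => ?_
    rw [Finset.HasAntidiagonal.mem_antidiagonal] at hij
    rw [← hij, Nat.choose_symm_add]

theorem isDer_pow {p : ℕ} [hp : Fact p.Prime] [CharP k p] {x : D} (hx : IsDer x) : IsDer (x ^ p) := by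
  intro a b
  rw [pow_leibniz hx, Finset.Nat.sum_antidiagonal_eq_sum_range_succ_mk, Finset.sum_range_succ,
    Finset.sum_eq_single 0]
  · simp [one_apply, add_comm]
  · intro i hi hi0
    rw [(CharP.cast_eq_zero_iff k p _).2 (hp.out.dvd_choose_self hi0 (Finset.mem_range.1 hi)), zero_mul]
  · exact fun h => absurd (Finset.mem_range.2 hp.out.pos) h

theorem isDer_add {x y : D} (hx : IsDer x) (hy : IsDer y) : IsDer (x + y) := fun a b => by
  show x (a * b) + y (a * b) = (x a + y a) * _ + _ * (x b + y b)
  rw [hx a b, hy a b]; ring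

theorem isDer_smul {x : D} (hx : IsDer x) (t : k) : IsDer (t • x) := fun a b => by
  show t * x (a * b) = t * x a * _ + _ * (t * x b)
  rw [hx a b]; ring

theorem isDer_zero : IsDer (0 : D) := fun a b => by
  show (0 : k) = 0 * _ + _ * 0
  ring

theorem isDer_sum {ι : Type*} (s : Finset ι) (y : ι → D) (h : ∀ i ∈ s, IsDer (y i)) : IsDer (∑ i ∈ s, y i) :=
  Finset.sum_induction y IsDer (fun _ _ => isDer_add) isDer_zero h

/-- A commuting sum raised to the characteristic. -/
theorem sum_pow {p : ℕ} [hp : Fact p.Prime] [CharP k p] [Nontrivial D] (s : Finset ℕ) (y : ℕ → D)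
    (hc : ∀ i j, Commute (y i) (y j)) : (∑ i ∈ s, y i) ^ p = ∑ i ∈ s, y i ^ p := by
  haveI : CharP D p := charP_of_injective_algebraMap (algebraMap k D).injective p
  haveI : ExpChar D p := ExpChar.prime hp.out
  induction s using Finset.induction_on with
  | empty => simp [hp.out.ne_zero]
  | insert i s hi ih =>
    rw [Finset.sum_insert hi, Finset.sum_insert hi,
      add_pow_expChar_of_commute (p := p) (h := Commute.sum_right _ _ _ fun j _ => hc i j), ih]

/-- Over an algebraically closed field some derivation has zero or equal `p`-th power. -/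
theorem exists_fixed [IsAlgClosed k] [Module.Finite k A] (p : ℕ) [hp : Fact p.Prime] [CharP k p]
    [Nontrivial D] {x : D} (hx : IsDer x) (hx0 : x ≠ 0) :
    ∃ y : D, y ≠ 0 ∧ IsDer y ∧ (y ^ p = 0 ∨ y ^ p = y) := by
  classical
  by_cases hn : ∃ y : D, y ≠ 0 ∧ IsDer y ∧ y ^ p = 0
  · obtain ⟨y, h1, h2, h3⟩ := hn
    exact ⟨y, h1, h2, Or.inl h3⟩
  push Not at hn
  set xs : ℕ → D := fun i => x ^ p ^ i with hxs
  have hsucc : ∀ i, xs i ^ p = xs (i + 1) := fun i => by simp only [hxs, ← pow_mul, pow_succ]
  have hder : ∀ i, IsDer (xs i) := by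
    intro i
    induction i with
    | zero => simpa [hxs] using hx
    | succ i ih => rw [← hsucc]; exact isDer_pow ih
  have hcomm : ∀ (t : ℕ → k) i j, Commute (t i • xs i) (t j • xs j) := fun t i j =>
    (((Commute.refl x).pow_pow _ _).smul_left _).smul_right _
  haveI : Module.Finite k D := Module.Finite.equiv (WithConv.linearEquiv k (A →ₗ[k] k)).symm
  have hex : ∃ m, xs m ∈ Submodule.span k (Set.range fun i : Fin m => xs i) := by
    by_contra h
    push Not at h
    have hli : ∀ m, LinearIndependent k (fun i : Fin m => xs i) := by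
      intro m
      induction m with
      | zero => exact linearIndependent_empty_type
      | succ m ih =>
        have e : (fun i : Fin (m + 1) => xs i) = Fin.snoc (fun i : Fin m => xs i) (xs m) := by
          funext i
          refine Fin.lastCases ?_ (fun i => ?_) i <;> simp
        rw [e, linearIndependent_finSnoc]
        exact ⟨ih, h m⟩
    have := (hli (Module.finrank k D + 1)).fintype_card_le_finrank
    simp at this
  set m := Nat.find hex with hm
  obtain ⟨c, hc⟩ := (Submodule.mem_span_range_iff_exists_fun k).1 (Nat.find_spec hex)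
  have hli : ∀ j, j ≤ m → LinearIndependent k (fun i : Fin j => xs i) := by
    intro j
    induction j with
    | zero => exact fun _ => linearIndependent_empty_type
    | succ j ih =>
      intro hj
      have e : (fun i : Fin (j + 1) => xs i) = Fin.snoc (fun i : Fin j => xs i) (xs j) := by
        funext i
        refine Fin.lastCases ?_ (fun i => ?_) i <;> simp
      rw [e, linearIndependent_finSnoc]
      exact ⟨ih (by omega), Nat.find_min hex (by omega)⟩
  obtain ⟨m', hm'⟩ : ∃ m', m = m' + 1 := by
    refine ⟨m - 1, (Nat.succ_pred_eq_of_ne_zero fun h0 => hx0 ?_).symm⟩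
    have h := Nat.find_spec hex
    rw [← hm, h0, Set.range_eq_empty, Submodule.span_empty, Submodule.mem_bot] at h
    simpa [hxs] using h
  let cc : ℕ → k := fun i => if h : i < m then c ⟨i, h⟩ else 0
  have hc' : xs m = ∑ i ∈ Finset.range m, cc i • xs i := by
    rw [← hc, Finset.sum_range]
    exact Finset.sum_congr rfl fun i _ => by simp [cc] <;> rfl
  have hc0 : cc 0 ≠ 0 := by
    intro h0
    choose r hr using fun i => IsAlgClosed.exists_pow_nat_eq (k := k) (cc (i + 1)) hp.out.pos
    set z := xs m' + ∑ i ∈ Finset.range m', (-r i) • xs i with hz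
    let t : ℕ → k := fun i => if i < m' then -r i else 1
    have hz' : z = ∑ i ∈ Finset.range (m' + 1), t i • xs i := by
      rw [Finset.sum_range_succ, hz, add_comm, show t m' = 1 by simp [t], one_smul]
      congr 1
      exact Finset.sum_congr rfl fun i hi => by simp [t, Finset.mem_range.1 hi]
    refine hn z (fun hz0 => ?_) ?_ ?_
    · rw [hz', Finset.sum_range (fun i => t i • xs i)] at hz0
      have := Fintype.linearIndependent_iff.1 (hli (m' + 1) hm'.ge) _ hz0 (Fin.last m')
      simp [t] at this
    · exact isDer_add (hder _) (isDer_sum _ _ fun i _ => isDer_smul (hder _) _)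
    · rw [hz', sum_pow _ _ (hcomm t), Finset.sum_range_succ, show t m' = 1 by simp [t], one_smul, hsucc, ← hm',
        hc', hm', Finset.sum_range_succ', h0, zero_smul, add_zero, ← Finset.sum_add_distrib]
      refine Finset.sum_eq_zero fun i hi => ?_
      rw [smul_pow, hsucc, ← add_smul, show t i = -r i by simp [t, Finset.mem_range.1 hi]]
      rw [show (-r i) ^ p = -(r i ^ p) by haveI : ExpChar k p := ExpChar.prime hp.out; exact map_neg (frobenius k p) (r i),
        hr, neg_add_cancel, zero_smul]
  open Polynomial in
  obtain ⟨B, hB0, hBsucc⟩ : ∃ B : ℕ → k[X], B 0 = C (cc 0) * X ^ p ∧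
      ∀ i, B (i + 1) = B i ^ p + C (cc (i + 1)) * X ^ p :=
    ⟨fun i => Nat.rec (C (cc 0) * X ^ p) (fun i P => P ^ p + C (cc (i + 1)) * X ^ p) i, rfl, fun _ => rfl⟩
  open Polynomial in
  have hBdeg : ∀ i, (B i).natDegree = p ^ (i + 1) ∧ derivative (B i) = 0 := by
    intro i
    induction i with
    | zero =>
      rw [hB0, derivative_C_mul_X_pow, natDegree_C_mul_X_pow _ _ hc0]
      simp
    | succ i ih =>
      constructor
      · rw [hBsucc, natDegree_add_eq_left_of_natDegree_lt, natDegree_pow, ih.1, pow_succ' p (i + 1)]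
        rw [natDegree_pow, ih.1, ← pow_succ']
        refine (natDegree_C_mul_X_pow_le _ _).trans_lt ?_
        calc p = p ^ 1 := (pow_one p).symm
          _ < p ^ (i + 1 + 1) := Nat.pow_lt_pow_right hp.out.one_lt (by omega)
      · rw [hBsucc, derivative_add, derivative_pow, derivative_C_mul_X_pow]
        simp
  open Polynomial in
  obtain ⟨t, ht, ht0⟩ : ∃ t : k, (B m').eval t = t ∧ t ≠ 0 := by
    set P := B m' - X with hP
    have h2 : 2 ≤ p ^ (m' + 1) := hp.out.two_le.trans (Nat.le_self_pow (by omega) p)
    have hdeg : P.natDegree = p ^ (m' + 1) := by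
      rw [hP, natDegree_sub_eq_left_of_natDegree_lt (by rw [natDegree_X, (hBdeg m').1]; omega), (hBdeg m').1]
    have hder' : derivative P = -1 := by rw [hP, derivative_sub, (hBdeg m').2, derivative_X, zero_sub]
    have hsep : P.Separable := by
      rw [separable_def, hder']
      exact (isCoprime_one_right (x := P)).neg_right
    have hcard : P.roots.card = p ^ (m' + 1) := by
      rw [← hdeg]; exact splits_iff_card_roots.1 (IsAlgClosed.splits P)
    have hP0 : P ≠ 0 := fun h => by rw [h, natDegree_zero] at hdeg; omega
    by_contra hno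
    push Not at hno
    have hsub : P.roots ⊆ {0} := fun a ha => by
      rw [mem_roots hP0, IsRoot.def, hP, eval_sub, eval_X, sub_eq_zero] at ha
      rw [Multiset.mem_singleton]
      exact hno a ha
    have := Multiset.card_le_card ((Multiset.le_iff_subset (nodup_roots hsep)).2 hsub)
    rw [hcard, Multiset.card_singleton] at this
    omega
  set b : ℕ → k := fun i => (B i).eval t with hb
  refine ⟨∑ i ∈ Finset.range (m' + 1), b i • xs i, fun h0 => ht0 ?_,
    isDer_sum _ _ fun i _ => isDer_smul (hder _) _, Or.inr ?_⟩
  · rw [Finset.sum_range (fun i => b i • xs i)] at h0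
    have := Fintype.linearIndependent_iff.1 (hli (m' + 1) hm'.ge) _ h0 (Fin.last m')
    simpa [hb, ht] using this
  · rw [sum_pow _ _ (hcomm b)]
    simp only [_root_.smul_pow, hsucc]
    rw [Finset.sum_range_succ, show b m' = t from ht, ← hm', hc', hm', Finset.sum_range_succ' _ m',
      Finset.sum_range_succ' (fun i => b i • xs i) m', smul_add, Finset.smul_sum, ← add_assoc,
      ← Finset.sum_add_distrib]
    congr 1
    · refine Finset.sum_congr rfl fun i _ => ?_
      rw [smul_smul, ← add_smul]
      congr 1
      simp only [hb, hBsucc, Polynomial.eval_add, Polynomial.eval_pow, Polynomial.eval_mul, Polynomial.eval_C, Polynomial.eval_X]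
      ring
    · rw [smul_smul]
      congr 1
      simp only [hb, hB0, Polynomial.eval_pow, Polynomial.eval_mul, Polynomial.eval_C, Polynomial.eval_X]
      ring

end MuAlphaLib
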