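import Groth.Agent.MuAlphaLib.Conv

/-!
# The homomorphism to `μ_p` or `α_p` attached to a derivation
-/

set_option autoImplicit false
set_option linter.style.haveILetI false
set_option maxHeartbeats 1000000

universe u v

open WithConv TensorProduct Coalgebra

namespace MuAlphaLib

variable {k : Type u} [Field k] {A : Type v} [CommRing A] [Bialgebra k A]

attribute [local instance] dualAlgebra

local notation "D" => WithConv (A →ₗ[k] k)

/-- The divided products `x (x - c) ⋯ (x - (n-1) c) / n!`. -/
noncomputable def bc (c : k) (x : D) : ℕ → D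
  | 0 => 1
  | n + 1 => ((n : k) + 1)⁻¹ • ((x - (c * n) • (1 : D)) * bc c x n)

theorem bc_zero (c : k) (x : D) : bc c x 0 = 1 := rfl

theorem succ_smul_bc {c : k} {x : D} {n : ℕ} (h : (n : k) + 1 ≠ 0) :
    ((n : k) + 1) • bc c x (n + 1) = (x - (c * n) • (1 : D)) * bc c x n := by
  rw [bc, smul_smul, mul_inv_cancel₀ h, one_smul]

theorem bc_eq_prod (c : k) (x : D) (n : ℕ) :
    ∃ r : k, bc c x n = r • ((List.range n).reverse.map fun l : ℕ => x - (c * l) • (1 : D)).prod := by
  induction n with
  | zero => exact ⟨1, by simp [bc]⟩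
  | succ n ih =>
    obtain ⟨r, hr⟩ := ih
    refine ⟨((n : k) + 1)⁻¹ * r, ?_⟩
    rw [bc, hr, mul_smul_comm, smul_smul, List.range_succ, List.reverse_append, List.reverse_singleton,
      List.singleton_append, List.map_cons, List.prod_cons]

variable {p : ℕ} [hp : Fact p.Prime] [CharP k p]

theorem natCast_succ_ne_zero {n : ℕ} (h : n + 1 < p) : (n : k) + 1 ≠ 0 := by
  rw [← Nat.cast_one, ← Nat.cast_add, Ne, CharP.cast_eq_zero_iff k p]
  exact fun hd => absurd (Nat.le_of_dvd n.succ_pos hd) (not_le.2 h)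

theorem natCast_pred : ((p - 1 : ℕ) : k) = -1 := by
  rw [Nat.cast_sub hp.out.pos, CharP.cast_eq_zero, zero_sub, Nat.cast_one]

theorem x_mul_bc {c : k} {x : D} (hprod : ((List.range p).reverse.map fun l : ℕ => x - (c * l) • (1 : D)).prod = 0)
    {n : ℕ} (hn : n < p) :
    x * bc c x n = ((n : k) + 1) • bc c x (n + 1) + (c * n) • bc c x n := by
  rcases Nat.lt_or_ge (n + 1) p with h | h
  · rw [succ_smul_bc (natCast_succ_ne_zero h), sub_mul, smul_mul_assoc, one_mul, sub_add_cancel]
  · obtain rfl : n = p - 1 := by omega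
    obtain ⟨r, hr⟩ := bc_eq_prod c x (p - 1)
    have h0 : (x - (c * ((p - 1 : ℕ) : k)) • (1 : D)) * bc c x (p - 1) = 0 := by
      rw [hr, mul_smul_comm]
      have : List.range p = List.range (p - 1) ++ [p - 1] := by
        rw [← List.range_succ]; congr 1; omega
      rw [this, List.reverse_append, List.reverse_singleton, List.singleton_append, List.map_cons,
        List.prod_cons] at hprod
      rw [hprod, smul_zero]
    rw [sub_mul, smul_mul_assoc, one_mul, sub_eq_zero] at h0
    rw [show ((p - 1 : ℕ) : k) + 1 = 0 by rw [natCast_pred, neg_add_cancel], zero_smul, zero_add, h0]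

theorem bc_mul {c : k} {x : D} (hx : IsDer x)
    (hprod : ((List.range p).reverse.map fun l : ℕ => x - (c * l) • (1 : D)).prod = 0)
    (n : ℕ) (hn : n < p) (a b : A) :
    bc c x n (a * b) = ∑ ij ∈ Finset.HasAntidiagonal.antidiagonal n, bc c x ij.1 a * bc c x ij.2 b := by
  induction n generalizing a b with
  | zero => simp [bc_zero, one_apply, Bialgebra.counit_mul]
  | succ n ih =>
    have hn' : n < p := by omega
    have hne := natCast_succ_ne_zero (k := k) hn
    apply mul_left_cancel₀ hne
    have h1 : ((n : k) + 1) * bc c x (n + 1) (a * b) = (x * bc c x n) (a * b) - c * n * bc c x n (a * b) := by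
      have := congrArg (fun φ : D => φ (a * b)) (succ_smul_bc (c := c) (x := x) hne)
      simp only [sub_mul, smul_mul_assoc, one_mul] at this
      exact this
    rw [h1, leibniz hx (Finset.HasAntidiagonal.antidiagonal n) (fun _ => (1 : k))
      (fun ij : ℕ × ℕ => bc c x ij.1) (fun ij : ℕ × ℕ => bc c x ij.2)
      (fun a' b' => by simpa using ih hn' a' b') a b, ih hn' a b, Finset.mul_sum, ← Finset.sum_sub_distrib]
    have key : ∀ i, i < p → ∀ u : A, (x * bc c x i) u = ((i : k) + 1) * bc c x (i + 1) u + c * i * bc c x i u :=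
      fun i hi u => congrArg (fun φ : D => φ u) (x_mul_bc hprod hi)
    have e1 : ∀ ij ∈ Finset.HasAntidiagonal.antidiagonal n,
        (1 : k) * ((x * bc c x ij.1) a * bc c x ij.2 b + bc c x ij.1 a * (x * bc c x ij.2) b) -
          c * n * (bc c x ij.1 a * bc c x ij.2 b) =
        ((ij.1 : k) + 1) * (bc c x (ij.1 + 1) a * bc c x ij.2 b) +
          ((ij.2 : k) + 1) * (bc c x ij.1 a * bc c x (ij.2 + 1) b) := fun ij hij => by
      rw [Finset.HasAntidiagonal.mem_antidiagonal] at hij
      rw [key ij.1 (by omega) a, key ij.2 (by omega) b, ← hij, Nat.cast_add]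
      ring
    rw [Finset.sum_congr rfl e1, Finset.sum_add_distrib, Finset.mul_sum]
    have e2 : ∀ ij ∈ Finset.HasAntidiagonal.antidiagonal (n + 1),
        ((n : k) + 1) * (bc c x ij.1 a * bc c x ij.2 b) =
        (ij.1 : k) * (bc c x ij.1 a * bc c x ij.2 b) + (ij.2 : k) * (bc c x ij.1 a * bc c x ij.2 b) := fun ij hij => by
      rw [Finset.HasAntidiagonal.mem_antidiagonal] at hij
      rw [← add_mul, ← Nat.cast_add, hij, Nat.cast_succ]
    rw [Finset.sum_congr rfl e2, Finset.sum_add_distrib]
    congr 1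
    · rw [Finset.Nat.sum_antidiagonal_succ]
      simp
    · rw [Finset.Nat.sum_antidiagonal_succ']
      simp

section Target

variable {B : Type u} [CommRing B] [Bialgebra k B] (X : B) (β : Module.Basis (Fin p) k B)

local notation "DB" => WithConv (B →ₗ[k] k)

/-- The map `a ↦ ∑ bₙ(a) Xⁿ`. -/
noncomputable def expMap (c : k) (x : D) : A →ₗ[k] B :=
  ∑ n : Fin p, (bc c x n).ofConv.smulRight (X ^ (n : ℕ))

theorem expMap_apply (c : k) (x : D) (a : A) : expMap X (p := p) c x a = ∑ n : Fin p, bc c x n a • X ^ (n : ℕ) := by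
  simp [expMap, LinearMap.sum_apply]

theorem expMap_mul (hXp : X ^ p = 0) {c : k} {x : D} (hx : IsDer x)
    (hprod : ((List.range p).reverse.map fun l : ℕ => x - (c * l) • (1 : D)).prod = 0) (a b : A) :
    expMap X (p := p) c x (a * b) = expMap X (p := p) c x a * expMap X (p := p) c x b := by
  classical
  let F : A → Polynomial k := fun a => ∑ n : Fin p, Polynomial.monomial (n : ℕ) (bc c x n a)
  have hF : ∀ a, Polynomial.aeval X (F a) = expMap X (p := p) c x a := fun a => by
    simp [F, expMap_apply, Polynomial.aeval_monomial, Algebra.smul_def]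
  have hcoeff : ∀ a n, n < p → (F a).coeff n = bc c x n a := fun a n hn => by
    simp only [F, Polynomial.finsetSum_coeff, Polynomial.coeff_monomial]
    rw [Finset.sum_eq_single ⟨n, hn⟩]
    · simp
    · exact fun i _ hi => if_neg fun h => hi (Fin.ext h)
    · exact fun h => absurd (Finset.mem_univ _) h
  have hdvd : Polynomial.X ^ p ∣ F (a * b) - F a * F b := by
    rw [Polynomial.X_pow_dvd_iff]
    intro n hn
    rw [Polynomial.coeff_sub, hcoeff _ _ hn, bc_mul hx hprod n hn, Polynomial.coeff_mul, sub_eq_zero]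
    refine Finset.sum_congr rfl fun ij hij => ?_
    rw [Finset.HasAntidiagonal.mem_antidiagonal] at hij
    rw [hcoeff _ _ (by omega), hcoeff _ _ (by omega)]
  rw [← hF, ← hF, ← hF, ← map_mul, ← sub_eq_zero, ← map_sub]
  obtain ⟨q, hq⟩ := hdvd
  rw [hq, map_mul, map_pow, Polynomial.aeval_X, hXp, zero_mul]

/-- Pull back of functionals. -/
noncomputable def pull (c : k) (x : D) (φ : DB) : D := toConv (φ.ofConv ∘ₗ expMap X (p := p) c x)

theorem pull_apply (c : k) (x : D) (φ : DB) (a : A) :
    pull X (p := p) c x φ a = φ (expMap X (p := p) c x a) := rfl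

/-- The coordinate functionals. -/
noncomputable def crd (n : ℕ) : DB := if h : n < p then toConv (β.coord ⟨n, h⟩) else 0

variable (hβ : ∀ i, β i = X ^ (i : ℕ))

include hβ in
theorem crd_pow {n m : ℕ} (hn : n < p) (hm : m < p) : crd β n (X ^ m) = if m = n then 1 else 0 := by
  rw [crd, dif_pos hn, show X ^ m = β ⟨m, hm⟩ from (hβ ⟨m, hm⟩).symm]
  simp only [WithConv.ofConv_toConv, Module.Basis.coord_apply, Module.Basis.repr_self, Finsupp.single_apply]
  exact if_congr Fin.mk.inj_iff rfl rfl

include hβ in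
theorem pull_crd {n : ℕ} (hn : n < p) (c : k) (x : D) : pull X (p := p) c x (crd β n) = bc c x n := by
  apply WithConv.ofConv_injective
  refine LinearMap.ext fun a => ?_
  show crd β n (expMap X (p := p) c x a) = bc c x n a
  rw [expMap_apply, map_sum, Finset.sum_eq_single ⟨n, hn⟩]
  · simp [crd_pow X β hβ hn hn]
  · intro i _ hi
    rw [map_smul, crd_pow X β hβ hn i.2, if_neg fun h => hi (Fin.ext h), smul_zero]
  · exact fun h => absurd (Finset.mem_univ _) h

variable (hXp : X ^ p = 0) (hX0 : counit (R := k) X = 0) {c : k}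
  (hXc : comul (R := k) X = X ⊗ₜ[k] 1 + 1 ⊗ₜ[k] X + c • (X ⊗ₜ[k] X))

include hX0 in
theorem counit_pow (m : ℕ) : counit (R := k) (X ^ m) = if m = 0 then 1 else 0 := by
  rcases m with _ | m
  · simp
  · rw [if_neg (Nat.succ_ne_zero m), ← Bialgebra.counitAlgHom_apply, map_pow, Bialgebra.counitAlgHom_apply, hX0,
      zero_pow (Nat.succ_ne_zero m)]

include hβ hX0 in
theorem crd_zero : crd β 0 = (1 : DB) := by
  apply WithConv.ofConv_injective
  refine β.ext fun i => ?_
  rw [hβ]
  show crd β 0 (X ^ (i : ℕ)) = counit (R := k) (X ^ (i : ℕ))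
  rw [crd_pow X β hβ hp.out.pos i.2, counit_pow X hX0]

include hβ hX0 hXp in
theorem isDer_crd_one : IsDer (A := B) (crd β 1) := by
  have hmul : ∀ i j : Fin p, crd β 1 (X ^ (i : ℕ) * X ^ (j : ℕ)) = crd β 1 (X ^ (i : ℕ)) * counit (R := k) (X ^ (j : ℕ)) +
      counit (R := k) (X ^ (i : ℕ)) * crd β 1 (X ^ (j : ℕ)) := fun i j => by
    have h1p := hp.out.one_lt
    rw [crd_pow X β hβ h1p i.2, crd_pow X β hβ h1p j.2, counit_pow X hX0, counit_pow X hX0, ← pow_add]
    rcases Nat.lt_or_ge ((i : ℕ) + j) p with h | h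
    · rw [crd_pow X β hβ h1p h]
      rcases Nat.eq_zero_or_pos (i : ℕ) with hi | hi <;> rcases Nat.eq_zero_or_pos (j : ℕ) with hj | hj <;>
        split_ifs <;> simp_all <;> omega
    · rw [show X ^ ((i : ℕ) + j) = 0 from pow_eq_zero_of_le h hXp, map_zero, if_neg (show ¬ (i : ℕ) = 0 by omega),
        if_neg (show ¬ (j : ℕ) = 0 by omega), mul_zero, zero_mul, add_zero]
  let L : B →ₗ[k] B →ₗ[k] k := (LinearMap.mul k B).compr₂ (crd β 1).ofConv
  let R : B →ₗ[k] B →ₗ[k] k := (LinearMap.mul k k).compl₁₂ (crd β 1).ofConv counit +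
    (LinearMap.mul k k).compl₁₂ counit (crd β 1).ofConv
  have hLR : L = R := β.ext fun i => β.ext fun j => by
    simpa [L, R, hβ] using hmul i j
  exact fun a b => congrArg (fun T : B →ₗ[k] B →ₗ[k] k => T a b) hLR

include hβ hX0 hXp hXc in
theorem crd_one_mul {n : ℕ} (hn : n < p) :
    crd β 1 * crd β n = ((n : k) + 1) • crd β (n + 1) + (c * n) • crd β n := by
  have hd := isDer_crd_one X β hβ hXp hX0
  let R : B ⊗[k] B →ₗ[k] B :=
    (TensorProduct.lid k B).toLinearMap ∘ₗ TensorProduct.map (crd β 1).ofConv LinearMap.id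
  let L : B ⊗[k] B →ₗ[k] B :=
    (TensorProduct.lid k B).toLinearMap ∘ₗ TensorProduct.map (counit (R := k)) LinearMap.id
  have hmulR : ∀ s t : B ⊗[k] B, R (s * t) = R s * L t + L s * R t := by
    intro s t
    induction s using TensorProduct.induction_on with
    | zero => simp
    | add s s' h h' => simp only [add_mul, map_add, h, h']; ring
    | tmul a a' =>
      induction t using TensorProduct.induction_on with
      | zero => simp
      | add t t' h h' => simp only [mul_add, map_add, h, h']; ring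
      | tmul b b' =>
        simp only [R, L, Algebra.TensorProduct.tmul_mul_tmul, LinearMap.coe_comp, LinearEquiv.coe_coe,
          Function.comp_apply, TensorProduct.map_tmul, TensorProduct.lid_tmul, LinearMap.id_apply, hd a b,
          Algebra.smul_def, map_add, map_mul]
        ring
  have hL : ∀ z : B, L (comul z) = z := fun z => by
    show TensorProduct.lid k B (LinearMap.rTensor B counit (comul z)) = z
    rw [Coalgebra.rTensor_counit_comul, TensorProduct.lid_tmul, one_smul]
  have hR1 : R (comul X) = 1 + c • X := by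
    have h1p := hp.out.one_lt
    have e1 : crd β 1 X = 1 := by simpa using crd_pow X β hβ h1p h1p
    have e0 : crd β 1 1 = 0 := by simpa using crd_pow X β hβ h1p hp.out.pos
    rw [hXc]
    simp [R, e1, e0]
  have hRpow : ∀ m : ℕ, R (comul (X ^ m)) = (m : k) • (X ^ (m - 1) * (1 + c • X)) := by
    intro m
    induction m with
    | zero =>
      have e0 : crd β 1 1 = 0 := by simpa using crd_pow X β hβ hp.out.one_lt hp.out.pos
      simp [R, Algebra.TensorProduct.one_def, e0]
    | succ m ih =>
      rw [pow_succ, Bialgebra.comul_mul, hmulR, hL, hL, ih, hR1]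
      rcases m with _ | m
      · simp
      · rw [Nat.succ_sub_one, Nat.add_sub_cancel, smul_mul_assoc, pow_succ X m]
        simp only [Algebra.smul_def]
        push_cast
        ring
  apply WithConv.ofConv_injective
  refine β.ext fun i => ?_
  have hpair : ∀ t : B ⊗[k] B, pair (A := B) (crd β 1) (crd β n) t = crd β n (R t) := by
    intro t
    induction t using TensorProduct.induction_on with
    | zero => simp
    | add s s' h h' => simp [map_add, h, h']
    | tmul a b => simp [R, pair_tmul]
  rw [hβ]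
  show (crd β 1 * crd β n) (X ^ (i : ℕ)) =
    ((n : k) + 1) * crd β (n + 1) (X ^ (i : ℕ)) + c * n * crd β n (X ^ (i : ℕ))
  rw [mul_apply, hpair, hRpow]
  rcases Nat.eq_zero_or_pos (i : ℕ) with h | h
  · rw [h, Nat.cast_zero, zero_smul, map_zero, crd_pow X β hβ hn hp.out.pos]
    rcases Nat.eq_zero_or_pos n with rfl | hn0
    · simp only [Nat.cast_zero, mul_zero, zero_mul, add_zero, zero_add, one_mul, crd_pow X β hβ hp.out.one_lt hp.out.pos]
      simp
    · rw [if_neg hn0.ne]
      rcases Nat.lt_or_ge (n + 1) p with h' | h'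
      · rw [crd_pow X β hβ h' hp.out.pos, if_neg (Nat.succ_ne_zero n).symm, mul_zero, mul_zero, add_zero]
      · rw [show crd β (n + 1) = (0 : DB) from dif_neg (by omega)]
        simp
  · rw [mul_add, mul_one, mul_smul_comm, ← pow_succ, show (i : ℕ) - 1 + 1 = i by omega, map_smul, map_add, map_smul,
      crd_pow X β hβ hn (show (i : ℕ) - 1 < p by omega), crd_pow X β hβ hn i.2]
    rcases Nat.lt_or_ge (n + 1) p with h' | h'
    · rw [crd_pow X β hβ h' i.2]
      by_cases ha : (i : ℕ) = n + 1
      · simp [ha]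
      · rw [if_neg (show ¬ (i : ℕ) - 1 = n by omega), if_neg ha]
        by_cases hb : (i : ℕ) = n
        · simp [hb, mul_comm]
        · simp [hb]
    · rw [show crd β (n + 1) = (0 : DB) from dif_neg (by omega), if_neg (show ¬ (i : ℕ) - 1 = n by omega)]
      by_cases hb : (i : ℕ) = n
      · simp [hb, mul_comm]
      · simp [hb]

include hβ hX0 hXp hXc in
theorem exists_bialgHom {x : D} (hx : IsDer x) (hx0 : x ≠ 0)
    (hprod : ((List.range p).reverse.map fun l : ℕ => x - (c * l) • (1 : D)).prod = 0) :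
    ∃ f : A →ₐc[k] B, Function.Surjective f := by
  classical
  set P : DB → D := pull X (p := p) c x with hP
  have hPadd : ∀ φ ψ : DB, P (φ + ψ) = P φ + P ψ := fun φ ψ => rfl
  have hPsmul : ∀ (r : k) (φ : DB), P (r • φ) = r • P φ := fun r φ => rfl
  have hP1 : P 1 = 1 := by rw [← crd_zero X β hβ hX0, hP, pull_crd X β hβ hp.out.pos, bc_zero]
  have hPn : ∀ n, n < p → P (crd β n) = bc c x n := fun n hn => pull_crd X β hβ hn c x
  have hbc1 : bc c x 1 = x := by simp [bc]
  -- expansion of functionals in coordinates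
  have hexp : ∀ φ : DB, φ = ∑ i : Fin p, φ (X ^ (i : ℕ)) • crd β (i : ℕ) := fun φ => by
    apply WithConv.ofConv_injective
    refine β.ext fun j => ?_
    rw [hβ, show (∑ i : Fin p, φ (X ^ (i : ℕ)) • crd β (i : ℕ)).ofConv =
      ∑ i : Fin p, (φ (X ^ (i : ℕ)) • crd β (i : ℕ)).ofConv from map_sum (WithConv.linearEquiv k (B →ₗ[k] k)) _ _,
      LinearMap.sum_apply]
    rw [Finset.sum_eq_single j]
    · show φ (X ^ (j : ℕ)) = φ (X ^ (j : ℕ)) * crd β (j : ℕ) (X ^ (j : ℕ))
      rw [crd_pow X β hβ j.2 j.2, if_pos rfl, mul_one]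
    · intro i _ hi
      show φ (X ^ (i : ℕ)) * crd β (i : ℕ) (X ^ (j : ℕ)) = 0
      rw [crd_pow X β hβ i.2 j.2, if_neg fun h => hi (Fin.ext h.symm), mul_zero]
    · exact fun h => absurd (Finset.mem_univ _) h
  let S : Submodule k DB :=
    { carrier := {φ | ∀ ψ : DB, P φ * P ψ = P (φ * ψ)}
      add_mem' := fun {φ φ'} h h' ψ => by rw [hPadd, add_mul, add_mul, h, h', hPadd]
      zero_mem' := fun ψ => by rw [zero_mul, show P 0 = 0 from rfl, zero_mul]
      smul_mem' := fun r φ h ψ => by rw [hPsmul, smul_mul_assoc, smul_mul_assoc, h, hPsmul] }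
  have hS1 : (1 : DB) ∈ S := fun ψ => by rw [hP1, one_mul, one_mul]
  have hSd : crd β 1 ∈ S := by
    intro ψ
    rw [hexp ψ]
    induction (Finset.univ : Finset (Fin p)) using Finset.induction_on with
    | empty => simp [show P 0 = 0 from rfl]
    | insert i s hi ih =>
      rw [Finset.sum_insert hi, hPadd, mul_add, mul_add, hPadd, ih, hPsmul, hPn 1 hp.out.one_lt, hPn _ i.2,
        mul_smul_comm, mul_smul_comm, hPsmul, hbc1, x_mul_bc hprod i.2,
        crd_one_mul X β hβ hXp hX0 hXc i.2, hPadd, hPsmul, hPsmul, hPn _ i.2]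
      rcases Nat.lt_or_ge ((i : ℕ) + 1) p with h | h
      · rw [hPn _ h]
      · rw [show ((i : ℕ) : k) + 1 = 0 by
          rw [show (i : ℕ) = p - 1 by omega, natCast_pred, neg_add_cancel], zero_smul, zero_smul]
  have hSmul : ∀ φ φ', φ ∈ S → φ' ∈ S → φ * φ' ∈ S := fun φ φ' h h' ψ => by
    rw [← h φ', mul_assoc, h' ψ, h, mul_assoc]
  have hScrd : ∀ n, n < p → crd β n ∈ S := by
    intro n hn
    induction n with
    | zero => rw [crd_zero X β hβ hX0]; exact hS1
    | succ n ih =>
      have h1 := crd_one_mul X β hβ hXp hX0 hXc (show n < p by omega)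
      rw [← sub_eq_iff_eq_add] at h1
      rw [← inv_smul_smul₀ (natCast_succ_ne_zero (k := k) hn) (crd β (n + 1)), ← h1]
      exact S.smul_mem _ (S.sub_mem (hSmul _ _ hSd (ih (by omega))) (S.smul_mem _ (ih (by omega))))
  have hmult : ∀ φ ψ : DB, P φ * P ψ = P (φ * ψ) := fun φ => by
    rw [hexp φ]
    exact S.sum_mem fun i _ => S.smul_mem _ (hScrd _ i.2)
  set F := expMap X (p := p) c x with hF
  have hF1 : F 1 = 1 := by
    rw [hF, expMap_apply, Finset.sum_eq_single ⟨0, hp.out.pos⟩]
    · simp [bc_zero, one_apply]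
    · intro i _ hi
      have hi0 : (i : ℕ) ≠ 0 := fun h => hi (Fin.ext h)
      have : ∀ n, n < p → n ≠ 0 → bc c x n 1 = 0 := by
        intro n hn hn0
        have h1 : x 1 = 0 := by simpa [Bialgebra.counit_one] using hx 1 1
        obtain ⟨m, rfl⟩ := Nat.exists_eq_succ_of_ne_zero hn0
        have hne := natCast_succ_ne_zero (k := k) hn
        induction m with
        | zero => rw [hbc1, h1]
        | succ m ihm =>
          have h2 := congrArg (fun φ : D => φ 1) (succ_smul_bc (c := c) (x := x) hne)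
          simp only [sub_mul, smul_mul_assoc, one_mul] at h2
          have h3 : bc c x (m + 1) 1 = 0 := ihm (by omega) (Nat.succ_ne_zero m) (natCast_succ_ne_zero (by omega))
          have h4 : (x * bc c x (m + 1)) 1 = 0 := by
            rw [mul_apply, Bialgebra.comul_one, Algebra.TensorProduct.one_def, pair_tmul, h1, zero_mul]
          have h2' : (((m + 1 : ℕ) : k) + 1) * bc c x (m + 1 + 1) 1 =
              (x * bc c x (m + 1)) 1 - c * ((m + 1 : ℕ) : k) * bc c x (m + 1) 1 := h2
          rw [h4, h3, mul_zero, sub_zero] at h2'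
          exact (mul_eq_zero.1 h2').resolve_left hne
      rw [this _ i.2 hi0, zero_smul]
    · exact fun h => absurd (Finset.mem_univ _) h
  let fA : A →ₐ[k] B := AlgHom.ofLinearMap F hF1 (expMap_mul X hXp hx hprod)
  have hcounit : (Bialgebra.counitAlgHom k B).comp fA = Bialgebra.counitAlgHom k A :=
    AlgHom.ext fun a => congrArg (fun φ : D => φ a) hP1
  have hcomul : (Algebra.TensorProduct.map fA fA).comp (Bialgebra.comulAlgHom k A) =
      (Bialgebra.comulAlgHom k B).comp fA := by
    refine AlgHom.ext fun a => (β.tensorProduct β).repr.injective (Finsupp.ext fun ij => ?_)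
    obtain ⟨i, j⟩ := ij
    have hrep : ∀ t : B ⊗[k] B, (β.tensorProduct β).repr t (i, j) =
        pair (A := B) (crd β (i : ℕ)) (crd β (j : ℕ)) t := by
      intro t
      induction t using TensorProduct.induction_on with
      | zero => simp
      | add s s' h h' => simp [map_add, h, h']
      | tmul u w =>
        rw [pair_tmul, Module.Basis.tensorProduct_repr_tmul_apply, crd, crd, dif_pos i.2, dif_pos j.2, smul_eq_mul,
          mul_comm]
        rfl
    rw [hrep, hrep]
    have hmap : ∀ t : A ⊗[k] A, pair (A := B) (crd β (i : ℕ)) (crd β (j : ℕ)) (Algebra.TensorProduct.map fA fA t) =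
        pair (P (crd β (i : ℕ))) (P (crd β (j : ℕ))) t := by
      intro t
      induction t using TensorProduct.induction_on with
      | zero => simp
      | add s s' h h' => simp [map_add, h, h']
      | tmul u w => rw [Algebra.TensorProduct.map_tmul, pair_tmul, pair_tmul]; rfl
    rw [AlgHom.comp_apply, hmap]
    show (P (crd β (i : ℕ)) * P (crd β (j : ℕ))) a = (crd β (i : ℕ) * crd β (j : ℕ)) (F a)
    rw [hmult]
    rfl
  refine ⟨BialgHom.ofAlgHom fA hcounit hcomul, ?_⟩
  -- surjectivity
  obtain ⟨a, ha⟩ : ∃ a : A, x a = 1 ∧ counit (R := k) a = 0 := by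
    obtain ⟨a, ha⟩ : ∃ a, x a ≠ 0 := by
      by_contra h
      push Not at h
      exact hx0 (WithConv.ofConv_injective (LinearMap.ext h))
    refine ⟨(x a)⁻¹ • (a - algebraMap k A (counit (R := k) a)), ?_, ?_⟩
    · have h1 : x 1 = 0 := by simpa [Bialgebra.counit_one] using hx 1 1
      rw [map_smul, map_sub, Algebra.algebraMap_eq_smul_one, map_smul, h1, smul_zero, sub_zero, smul_eq_mul,
        inv_mul_cancel₀ ha]
    · simp [map_sub, Algebra.algebraMap_eq_smul_one]
  have hy : ∃ w : B, F a = X + X ^ 2 * w := by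
    refine ⟨∑ n : Fin p, if 2 ≤ (n : ℕ) then bc c x n a • X ^ ((n : ℕ) - 2) else 0, ?_⟩
    have eX : (∑ n : Fin p, if (n : ℕ) = 1 then X ^ (n : ℕ) else 0) = X := by
      rw [Finset.sum_eq_single (⟨1, hp.out.one_lt⟩ : Fin p)]
      · simp
      · exact fun n _ hn => if_neg fun h => hn (Fin.ext h)
      · exact fun h => absurd (Finset.mem_univ _) h
    conv_rhs => arg 1; rw [← eX]
    rw [hF, expMap_apply, Finset.mul_sum, ← Finset.sum_add_distrib]
    refine Finset.sum_congr rfl fun n _ => ?_
    by_cases h1 : (n : ℕ) = 1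
    · rw [if_pos h1, if_neg (show ¬ 2 ≤ (n : ℕ) by omega), mul_zero, add_zero, h1, hbc1, ha.1, one_smul]
    by_cases h2 : 2 ≤ (n : ℕ)
    · rw [if_neg h1, if_pos h2, zero_add, mul_smul_comm, ← pow_add, show 2 + ((n : ℕ) - 2) = n by omega]
    · rw [if_neg h1, if_neg h2, show (n : ℕ) = 0 by omega, bc_zero, one_apply, ha.2, zero_smul, mul_zero, add_zero]
  obtain ⟨w, hw⟩ := hy
  have hkey : ∀ j m, p ≤ m + j → ∀ z : B, X ^ m * z ∈ fA.range := by
    intro j
    induction j with
    | zero => intro m hm z; rw [pow_eq_zero_of_le (by omega : p ≤ m) hXp, zero_mul]; exact zero_mem _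
    | succ j ih =>
      intro m hm z
      have hm1 : X ^ m ∈ fA.range := by
        obtain ⟨t, ht⟩ := sub_dvd_pow_sub_pow (1 + X * w) 1 m
        have e : (F a) ^ m = X ^ m + X ^ (m + 1) * (w * t) := by
          rw [hw, show X + X ^ 2 * w = X * (1 + X * w) by ring, mul_pow,
            show (1 + X * w) ^ m = 1 + X * w * t by rw [one_pow] at ht; linear_combination ht]
          ring
        rw [show X ^ m = (F a) ^ m - X ^ (m + 1) * (w * t) by rw [e]; ring]
        exact sub_mem (pow_mem (show F a ∈ fA.range from ⟨a, rfl⟩) m) (ih (m + 1) (by omega) _)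
      rw [← β.sum_repr z, Finset.mul_sum]
      refine sum_mem fun i _ => ?_
      rw [hβ, mul_smul_comm]
      refine Subalgebra.smul_mem _ ?_ _
      rcases Nat.eq_zero_or_pos (i : ℕ) with h | h
      · rwa [h, pow_zero, mul_one]
      · rw [← pow_add, show m + (i : ℕ) = (m + 1) + ((i : ℕ) - 1) by omega, pow_add]
        exact ih _ (by omega) _
  intro z
  obtain ⟨a', ha'⟩ := hkey p 0 (by omega) z
  exact ⟨a', by rw [pow_zero, one_mul] at ha'; exact ha'⟩

end Target

end MuAlphaLib
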